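import Cfsg.Prelude.Def_IsolatedElements
import Cfsg.Agent.PCore.Basic
import Cfsg.Agent.LocalLemmas.Isolated
import Mathlib.GroupTheory.Sylow
import Mathlib.GroupTheory.SchurZassenhaus

/-!
Minimal counterexamples to the `Z*_p` statement.
-/

set_option autoImplicit false

namespace CfsgLib.ZpStarMin

open Subgroup

variable {G : Type*} [Group G] [Finite G] {p : ℕ} [hp : Fact p.Prime] {x : G}

omit [Finite G] hp in
theorem inZStar_of_central (h : ∀ g : G, g * x * g⁻¹ = x) : Cfsg.InZStar p x := fun g => by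
  rw [h g, mul_inv_cancel]; exact one_mem _

theorem pPrimeCore_eq_bot (hnz : ¬ Cfsg.InZStar p x)
    (hquot : ∀ (N : Subgroup G) [N.Normal], N ≠ ⊥ → Cfsg.InZStar p (QuotientGroup.mk x : G ⧸ N)) :
    Cfsg.pPrimeCore p G = ⊥ := by
  by_contra hne
  refine hnz fun g => ?_
  have h := hquot (Cfsg.pPrimeCore p G) hne (QuotientGroup.mk g)
  rw [CfsgLib.PCore.pPrimeCore_quotient, Subgroup.mem_bot, ← QuotientGroup.mk_inv, ← QuotientGroup.mk_mul,
    ← QuotientGroup.mk_inv, ← QuotientGroup.mk_mul, ← QuotientGroup.mk_mul] at h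
  exact (QuotientGroup.eq_one_iff _).mp h

omit [Finite G] in
theorem not_isPGroup (hiso : Cfsg.IsIsolated x) [Finite G] (hnz : ¬ Cfsg.InZStar p x) : ¬ IsPGroup p G := fun h => by
  refine hnz (inZStar_of_central fun g => ?_)
  exact CfsgLib.Isolated.eq_of_mem (R := ⊤) hiso (h.of_equiv Subgroup.topEquiv.symm) (mem_top x) (mem_top _)

omit [Finite G] in
/-- A `p`-element commuting with everything modulo a `p'`-subgroup fixes a Sylow `q`-subgroup. -/
theorem exists_invariant_sylow [Finite G] {q : ℕ} [Fact q.Prime] (hx : orderOf x = p) (K : Subgroup G) [K.Normal]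
    (hK : (Nat.card K).Coprime p) (hc : ∀ g : G, g * x * g⁻¹ * x⁻¹ ∈ K) :
    ∃ T : Sylow q G, x ∈ normalizer ((T : Subgroup G) : Set G) := by
  obtain ⟨T⟩ := (inferInstance : Nonempty (Sylow q G))
  set M := K ⊔ (T : Subgroup G) with hM
  have hxM : x ∈ normalizer (M : Set G) := by
    refine Subgroup.mem_normalizer_fintype (S := (M : Set G)) fun m hm => ?_
    have h1 : x * m * x⁻¹ * m⁻¹ ∈ K := by
      have h2 := K.inv_mem (hc m)
      simpa [mul_assoc] using h2
    have h3 : x * m * x⁻¹ = (x * m * x⁻¹ * m⁻¹) * m := by group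
    rw [h3]
    exact M.mul_mem (mem_sup_left h1) hm
  have hTM : (T : Subgroup G) ≤ M := le_sup_right
  have hsur : ∀ m : M, ∃ k : K, ∃ t : (T : Subgroup G), (m : G) = k * t := fun m => by
    obtain ⟨k, hk, t, ht, he⟩ := Subgroup.mem_sup_of_normal_left.mp m.2
    exact ⟨⟨k, hk⟩, ⟨t, ht⟩, he.symm⟩
  -- the action of `⟨x⟩` on the Sylow subgroups of `M`
  set H := normalizer (M : Set G)
  haveI : Finite H := inferInstance
  let S := {U : Sylow q G // (U : Subgroup G) ≤ M}
  let act : MulAction (Subgroup.zpowers x) S :=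
    { smul := fun a U => ⟨(a : G) • (U : Sylow q G), by
        intro y hy
        rw [Sylow.coe_subgroup_smul, Subgroup.mem_pointwise_smul_iff_inv_smul_mem] at hy
        have h2 := U.2 hy
        simp only [MulAut.smul_def, MulAut.conj_inv_apply] at h2
        have h3 := (Subgroup.mem_normalizer_iff.mp ((zpowers_le.mpr hxM) a.2) _).mp h2
        simpa [mul_assoc] using h3⟩
      one_smul := fun U => Subtype.ext (one_smul G (U : Sylow q G))
      mul_smul := fun a b U => Subtype.ext (mul_smul (a : G) (b : G) (U : Sylow q G)) }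
  have hcard : ¬ p ∣ Nat.card S := by
    intro hd
    refine hp.out.coprime_iff_not_dvd.mp hK.symm (hd.trans ?_)
    let act' : MulAction K S :=
      { smul := fun a U => ⟨(a : G) • (U : Sylow q G), by
          intro y hy
          rw [Sylow.coe_subgroup_smul, Subgroup.mem_pointwise_smul_iff_inv_smul_mem] at hy
          have h2 := U.2 hy
          simp only [MulAut.smul_def, MulAut.conj_inv_apply] at h2
          have h3 := (Subgroup.mem_normalizer_iff.mp (le_normalizer (mem_sup_left a.2 : (a : G) ∈ M)) _).mp h2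
          simpa [mul_assoc] using h3⟩
        one_smul := fun U => Subtype.ext (one_smul G (U : Sylow q G))
        mul_smul := fun a b U => Subtype.ext (mul_smul (a : G) (b : G) (U : Sylow q G)) }
    haveI : MulAction.IsPretransitive K S := by
      refine ⟨fun U V => ?_⟩
      have key : ∀ W : S, ∃ k : K, k • (⟨T, hTM⟩ : S) = W := by
        rintro ⟨W, hW⟩
        obtain ⟨m, hm⟩ := MulAction.exists_smul_eq M (T.subtype hTM) (W.subtype hW)
        obtain ⟨k, t, hkt⟩ := hsur m
        refine ⟨k, Subtype.ext ?_⟩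
        show (k : G) • T = W
        have h1 : (m : G) • T = W := by
          have hle : (W : Subgroup G) ≤ (((m : G) • T : Sylow q G) : Subgroup G) := by
            intro w hw
            have h4 : (⟨w, hW hw⟩ : M) ∈ ((m • T.subtype hTM : Sylow q M) : Subgroup M) := by
              rw [hm]; exact hw
            rw [Sylow.coe_subgroup_smul, Subgroup.mem_pointwise_smul_iff_inv_smul_mem] at h4 ⊢
            simpa [Subgroup.mem_subgroupOf, MulAut.conj_inv_apply] using h4
          exact Sylow.ext (W.is_maximal' ((m : G) • T).isPGroup' hle)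
        rw [hkt, mul_smul, Sylow.smul_eq_iff_mem_normalizer.mpr (le_normalizer t.2)] at h1
        exact h1
      obtain ⟨a, ha⟩ := key U
      obtain ⟨b, hb⟩ := key V
      exact ⟨b * a⁻¹, by rw [← ha, smul_smul, inv_mul_cancel_right, hb]⟩
    rw [← MulAction.index_stabilizer_of_transitive K (⟨T, hTM⟩ : S)]
    exact Subgroup.index_dvd_card _
  obtain ⟨U, hU⟩ := (IsPGroup.of_card (n := 1) (by rw [Nat.card_zpowers, hx, pow_one]) :
    IsPGroup p (Subgroup.zpowers x)).nonempty_fixed_point_of_prime_not_dvd_card S hcard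
  have h1 : x • (U : Sylow q G) = U := congrArg Subtype.val (hU ⟨x, mem_zpowers x⟩)
  exact ⟨U, Sylow.smul_eq_iff_mem_normalizer.mp h1⟩

end CfsgLib.ZpStarMin
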